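import Groth.Agent.Sga3.H786.FFDesc
import Groth.Agent.Sga3.H789.FieldHull
import Groth.Agent.Sga3C.AffinizationGrp
import Mathlib.AlgebraicGeometry.Morphisms.FiniteType
import Mathlib.AlgebraicGeometry.Morphisms.Descent
import Mathlib.AlgebraicGeometry.Noetherian

/-!
# The affine hull of an algebraic group over a field is of finite type
-/

set_option autoImplicit false
universe u
open CategoryTheory MonoidalCategory CartesianMonoidalCategory MonObj GrpObj AlgebraicGeometry Limits
open TensorProduct

namespace Groth.Agent.Sga3.H786.HullFG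

open Groth.Agent.Sga3C.Affinization Groth.Agent.Sga3C.AffinizationGrp
  Groth.Agent.Books.AffBridge Groth.Agent.Books.AffBridge2
  Groth.Agent.Books.SubHopf Groth.Agent.Books.SubHopfFG

variable (k : Type u) [Field k]

theorem isIso_appTop {X Y : Scheme.{u}} (f : X ⟶ Y) (hf : IsIso f) : IsIso f.appTop :=
  inferInstanceAs (IsIso (Scheme.Γ.map f.op))

/-- `O` of an injective ring map is injective on global sections. -/
theorem appTop_specMap_injective {A B : Type u} [CommRing A] [CommRing B] [Algebra k A] [Algebra k B]
    (f : A →ₐ[k] B) (hf : Function.Injective f) : Function.Injective (specMap k f).left.appTop.hom := by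
  change Function.Injective (Spec.map (CommRingCat.ofHom f.toRingHom)).appTop.hom
  have h1 := Scheme.ΓSpecIso_naturality (CommRingCat.ofHom f.toRingHom)
  have h2 : (Spec.map (CommRingCat.ofHom f.toRingHom)).appTop =
    (Scheme.ΓSpecIso _).hom ≫ CommRingCat.ofHom f.toRingHom ≫ (Scheme.ΓSpecIso _).inv := by
    rw [← Category.assoc, ← h1, Category.assoc, Iso.hom_inv_id, Category.comp_id]
  rw [h2]
  simp only [CommRingCat.hom_comp, RingHom.coe_comp, CommRingCat.hom_ofHom]
  refine ((ConcreteCategory.bijective_of_isIso (Scheme.ΓSpecIso (CommRingCat.of B)).inv).1.comp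
    hf).comp (ConcreteCategory.bijective_of_isIso (Scheme.ΓSpecIso (CommRingCat.of A)).hom).1

/-- Let `G` be a group scheme of finite type over `k`, `A` a Hopf algebra and `u : G ⟶ Spec A` a
homomorphism which is injective on functions. Then `A` is a finitely generated algebra. -/
theorem finiteType_of_injective (G : Over (Spec (CommRingCat.of k))) [GrpObj G]
    [LocallyOfFiniteType G.hom] [QuasiCompact G.hom] (A : Type u) [CommRing A] [HopfAlgebra k A]
    (u : G ⟶ SpecOver k A) [IsMonHom u] (hu : Function.Injective u.left.appTop.hom) :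
    Algebra.FiniteType k A := by
  have : CompactSpace G.left := QuasiCompact.compactSpace_of_compactSpace G.hom
  obtain ⟨T, p, hps, hpf, hT⟩ :=
    Scheme.exists_hom_isAffine_of_isZariskiLocalAtSource (P := @Etale) G.left
  have : Etale p := hpf
  -- the algebra `C`
  let q : Spec Γ(T, ⊤) ⟶ G.left := T.isoSpec.inv ≫ p
  have hqe : Etale q := inferInstance
  have hqf : Flat q := inferInstance
  have hqs : Surjective q := inferInstance
  let f : CommRingCat.of k ⟶ Γ(T, ⊤) := Spec.preimage (q ≫ G.hom)
  have hf : Spec.map f = q ≫ G.hom := Spec.map_preimage _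
  let _ : Algebra k Γ(T, ⊤) := f.hom.toAlgebra
  have hfin : Algebra.FiniteType k Γ(T, ⊤) := by
    have h1 : LocallyOfFiniteType (Spec.map f) := by
      rw [hf]; infer_instance
    rw [HasRingHomProperty.Spec_iff (P := @LocallyOfFiniteType)] at h1
    exact h1
  let q' : SpecOver k Γ(T, ⊤) ⟶ G := Over.homMk q hf.symm
  have key : ∀ (B : Type u) [CommRing B] [HopfAlgebra k B] (v : G ⟶ SpecOver k B) [IsMonHom v]
      (hv : Function.Injective v.left.appTop.hom),
      (specPreimage k (q' ≫ v)).toRingHom.FaithfullyFlat := by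
    intro B _ _ v _ hv
    have h0 : IsAffine (SpecOver k B).left := inferInstanceAs (IsAffine (Spec _))
    have h1 := Groth.Agent.Sga3.H789.FieldHull.flat_and_surjective k G (SpecOver k B) v hv
    have h2 := h1.1
    have h3 := h1.2
    have h4 : Spec.map (CommRingCat.ofHom (specPreimage k (q' ≫ v)).toRingHom) = q ≫ v.left := by
      have := congrArg CommaMorphism.left (specMap_specPreimage k (q' ≫ v))
      exact this
    have h5 := (flat_and_surjective_SpecMap_iff
      (CommRingCat.ofHom (specPreimage k (q' ≫ v)).toRingHom)).1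
        (by
          rw [h4]
          exact ⟨MorphismProperty.comp_mem _ _ _ hqf h2, MorphismProperty.comp_mem _ _ _ hqs h3⟩)
    exact h5
  let φ : A →ₐ[k] Γ(T, ⊤) := specPreimage k (q' ≫ u)
  have hφ : Function.Injective φ := (key A u hu).injective
  have : Algebra.FiniteType k (Γ(T, ⊤) ⊗[k] Γ(T, ⊤)) :=
    Algebra.FiniteType.trans (S := Γ(T, ⊤)) hfin (Algebra.FiniteType.baseChange _)
  have : IsNoetherianRing (Γ(T, ⊤) ⊗[k] Γ(T, ⊤)) := Algebra.FiniteType.isNoetherianRing k _
  refine FFDesc.finiteType_of_faithfullyFlat φ hφ fun s hs => ?_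
  obtain ⟨B, hB, hfg, hsB⟩ := exists_fg_subHopf (k := k) (A := A) s hs
  refine ⟨B, hsB, hfg, ?_⟩
  let _ := hB.hopf
  have h1 : IsMonHom (specMap k (hB.val : B →ₐ[k] A)) := isMonHom_specMap k hB.val
  have h2 := key B (u ≫ specMap k (hB.val : B →ₐ[k] A)) (by
    rw [Over.comp_left, Scheme.Hom.comp_appTop, CommRingCat.hom_comp, RingHom.coe_comp]
    exact hu.comp (appTop_specMap_injective k _ Subtype.val_injective))
  have h3 : specPreimage k (q' ≫ u ≫ specMap k (hB.val : B →ₐ[k] A)) = φ.comp B.val := by
    apply specMap_injective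
    rw [specMap_specPreimage, specMap_comp, specMap_specPreimage, Category.assoc]
    rfl
  rw [h3] at h2
  exact h2

/-- The affine hull of an algebraic group. -/
theorem main (G : Over (Spec (CommRingCat.of k))) [GrpObj G]
    [LocallyOfFiniteType G.hom] [QuasiCompact G.hom] :
    Surjective G.left.toSpecΓ ∧ Flat G.left.toSpecΓ ∧
      LocallyOfFiniteType (Spec.map G.hom.appTop ≫ (Spec (CommRingCat.of k)).isoSpec.inv) := by
  have : CompactSpace G.left := QuasiCompact.compactSpace_of_compactSpace G.hom
  have : IsLocallyNoetherian G.left := LocallyOfFiniteType.isLocallyNoetherian G.hom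
  have : QuasiSeparatedSpace G.left := inferInstance
  have ha := isAffinization_toAff G
  obtain ⟨_, ham⟩ := exists_grpObj ha
  have haff : IsAffine (affOver G).left := ha.isAffine
  have hiso := ha.isIso
  have hinj : Function.Injective (toAff G).left.appTop.hom :=
    (ConcreteCategory.bijective_of_isIso (toAff G).left.appTop).1
  have h1 := Groth.Agent.Sga3.H789.FieldHull.flat_and_surjective k G (affOver G) (toAff G) hinj
  refine ⟨h1.2, h1.1, ?_⟩
  obtain ⟨A, _, _, e, he⟩ := exists_hopf k (affOver G)
  have he1 : IsIso e.hom.left := inferInstanceAs (IsIso ((Over.forget _).map e.hom))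
  have h2 : Algebra.FiniteType k A := by
    refine finiteType_of_injective k G A (toAff G ≫ e.hom) ?_
    have h3 : IsIso e.hom.left.appTop := isIso_appTop _ he1
    rw [Over.comp_left, Scheme.Hom.comp_appTop, CommRingCat.hom_comp, RingHom.coe_comp]
    exact hinj.comp (ConcreteCategory.bijective_of_isIso e.hom.left.appTop).1
  have h3 : LocallyOfFiniteType (SpecOver k A).hom := by
    change LocallyOfFiniteType (Spec.map (CommRingCat.ofHom (algebraMap k A)))
    rw [HasRingHomProperty.Spec_iff (P := @LocallyOfFiniteType), CommRingCat.hom_ofHom,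
      RingHom.finiteType_algebraMap]
    exact h2
  have h4 : Spec.map G.hom.appTop ≫ (Spec (CommRingCat.of k)).isoSpec.inv = (affOver G).hom := by
    dsimp [affOver]
    rw [Spec.map_comp, Scheme.isoSpec_Spec_inv]
  rw [h4, ← Over.w e.hom]
  have h5 : LocallyOfFiniteType e.hom.left := by
    have := he1
    generalize e.hom.left = w at *
    infer_instance
  exact MorphismProperty.comp_mem _ _ _ h5 h3

end Groth.Agent.Sga3.H786.HullFG
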