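import Mathlib.RingTheory.Flat.FaithfullyFlat.Algebra
import Mathlib.RingTheory.Flat.FaithfullyFlat.Descent
import Mathlib.RingTheory.FiniteType
import Mathlib.RingTheory.TensorProduct.IncludeLeftSubRight
import Mathlib.RingTheory.Noetherian.Basic

/-!
# Finite generation of an algebra under a finitely generated cover

Let `k` be a Noetherian ring, `C` a `k`-algebra of finite type and `A ⊆ C` a `k`-subalgebra which is the
directed union of finitely generated subalgebras `B` over which `C` is faithfully flat. Then `A` is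
one of them; in particular it is finitely generated.
-/

set_option autoImplicit false
universe u v w

open TensorProduct

namespace Groth.Agent.Sga3.H786.FFDesc

variable {k : Type u} {A : Type v} {C : Type w} [CommRing k] [CommRing A] [CommRing C] [Algebra k A] [Algebra k C]

/-- The ideal of `C ⊗[k] C` generated by the `φ b ⊗ 1 - 1 ⊗ φ b`, `b ∈ B`. -/
def J (φ : A →ₐ[k] C) (B : Subalgebra k A) : Ideal (C ⊗[k] C) :=
  Ideal.span ((fun b : A => φ b ⊗ₜ[k] (1 : C) - (1 : C) ⊗ₜ[k] φ b) '' (B : Set A))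

theorem J_mono (φ : A →ₐ[k] C) {B B' : Subalgebra k A} (h : B ≤ B') : J φ B ≤ J φ B' :=
  Ideal.span_mono (Set.image_mono h)

/-- If `C` is faithfully flat over `B`, elements of `C` equalized modulo `J φ B` come from `B`. -/
theorem exists_of_mem_J (φ : A →ₐ[k] C) (B : Subalgebra k A)
    (hB : (φ.comp B.val).toRingHom.FaithfullyFlat) (c : C)
    (hc : c ⊗ₜ[k] (1 : C) - (1 : C) ⊗ₜ[k] c ∈ J φ B) : ∃ b ∈ B, φ b = c := by
  let _ : Algebra B C := (φ.comp B.val).toRingHom.toAlgebra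
  have hff : Module.FaithfullyFlat B C := hB
  have : IsScalarTower k B C := IsScalarTower.of_algebraMap_eq (fun r => by
    change algebraMap k C r = φ (algebraMap k B r : B)
    rw [Subalgebra.coe_algebraMap, AlgHom.commutes])
  let q : C ⊗[k] C →ₐ[k] C ⊗[B] C :=
    Algebra.TensorProduct.lift ((Algebra.TensorProduct.includeLeft : C →ₐ[B] C ⊗[B] C).restrictScalars k)
      ((Algebra.TensorProduct.includeRight : C →ₐ[B] C ⊗[B] C).restrictScalars k)
      (fun _ _ => Commute.all _ _)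
  have hq : ∀ x y : C, q (x ⊗ₜ y) = x ⊗ₜ[B] y := by
    intro x y
    simp [q]
  have h1 : J φ B ≤ RingHom.ker q := by
    refine Ideal.span_le.2 ?_
    rintro _ ⟨b, hb, rfl⟩
    change q _ = 0
    rw [map_sub, hq, hq]
    have h2 : φ b = algebraMap B C ⟨b, hb⟩ := rfl
    rw [h2, sub_eq_zero, Algebra.algebraMap_eq_smul_one, TensorProduct.smul_tmul]
  have h3 : q (c ⊗ₜ[k] (1 : C) - (1 : C) ⊗ₜ[k] c) = 0 := h1 hc
  rw [map_sub, hq, hq] at h3
  have h4 := (Algebra.IsEffective.of_faithfullyFlat B C) c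
  obtain ⟨b, hb⟩ := h4.1 (by rw [Algebra.TensorProduct.includeLeftSubRight_apply, h3])
  exact ⟨b, b.2, hb⟩

/-- If `C ⊗[k] C` is noetherian and `A` is a directed union of finitely generated subalgebras over which
`C` is faithfully flat, then `A` is of finite type. -/
theorem finiteType_of_faithfullyFlat (φ : A →ₐ[k] C) (hφ : Function.Injective φ)
    [IsNoetherianRing (C ⊗[k] C)]
    (h : ∀ s : Set A, s.Finite → ∃ B : Subalgebra k A, s ⊆ B ∧ B.FG ∧ (φ.comp B.val).toRingHom.FaithfullyFlat) :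
    Algebra.FiniteType k A := by
  let 𝒮 : Set (Ideal (C ⊗[k] C)) := {I | ∃ B : Subalgebra k A, B.FG ∧
    (φ.comp B.val).toRingHom.FaithfullyFlat ∧ J φ B = I}
  have hne : 𝒮.Nonempty := by
    obtain ⟨B, -, h1, h2⟩ := h ∅ Set.finite_empty
    exact ⟨_, B, h1, h2, rfl⟩
  obtain ⟨_, ⟨B, hBfg, hBff, rfl⟩, hmax⟩ := set_has_maximal_iff_noetherian.2 ‹IsNoetherianRing (C ⊗[k] C)› 𝒮 hne
  have hBtop : B = ⊤ := by
    rw [eq_top_iff]
    intro a _
    obtain ⟨s, hs⟩ := hBfg
    obtain ⟨B', hB', hB'fg, hB'ff⟩ := h (insert a (s : Set A)) (s.finite_toSet.insert a)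
    have hle : B ≤ B' := by
      rw [← hs, Algebra.adjoin_le_iff]
      exact (Set.subset_insert _ _).trans hB'
    have ha : a ∈ B' := hB' (Set.mem_insert _ _)
    have h1 : J φ B = J φ B' := by
      by_contra hne
      exact hmax _ ⟨B', hB'fg, hB'ff, rfl⟩ (lt_of_le_of_ne (J_mono φ hle) hne)
    have h2 : φ a ⊗ₜ[k] (1 : C) - (1 : C) ⊗ₜ[k] φ a ∈ J φ B := by
      rw [h1]
      exact Ideal.subset_span ⟨a, ha, rfl⟩
    obtain ⟨b, hb, hba⟩ := exists_of_mem_J φ B hBff (φ a) h2
    rwa [← hφ hba]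
  exact ⟨hBtop ▸ hBfg⟩

end Groth.Agent.Sga3.H786.FFDesc
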