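import Groth.Agent.Sga3B.MT.TorusFam
import Groth.Agent.Sga3B.TorusEtLoc920
import Groth.Agent.S2976
import Groth.Agent.Sga3B.AffDvrBase789

/-!
# The fibre criterion for tori, affine case, scheme form

* `isTorus_bc_field`: if all geometric fibres are tori, so are all base changes to fields.
* `isTorus_of_isAffineHom`: a flat affine group scheme of finite presentation whose geometric fibres are tori
  is a torus.
-/

set_option autoImplicit false

universe u

open CategoryTheory MonoidalCategory CartesianMonoidalCategory MonObj GrpObj AlgebraicGeometry Limits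
open TensorProduct
open Groth.Agent.Books.AffBridge Groth.Agent.Sga3A Groth.Agent.Sga3A.MTBasis

namespace Groth.Agent.Sga3.H786.TCAff

open Groth.Agent.Sga3B Groth.Agent.Sga3B.TorusBc Groth.Agent.Sga3B.TorusAlgClosed

/-- quasi-compact surjective maps cover affine opens by compact opens -/
lemma qc_cover {S S' : Scheme.{u}} (f : S' ⟶ S) [QuasiCompact f] [Surjective f] (V : S.Opens)
    (hV : IsAffineOpen V) :
    ∃ W : S'.Opens, IsCompact (W : Set S') ∧ f.base '' (W : Set S') = (V : Set S) := by
  refine ⟨f ⁻¹ᵁ V, QuasiCompact.isCompact_preimage _ V.2 hV.isCompact, ?_⟩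
  exact Set.image_preimage_eq _ f.surjective

/-- Split tori are tori. -/
theorem isTorus_of_isSplitTorusWith {S : Scheme.{u}} {r : ℕ} {T : Over S} [GrpObj T]
    (h : Red.IsSplitTorusWith (Fin r → ℤ) T) : Red.IsTorus T :=
  ⟨S, 𝟙 S, inferInstance, inferInstance, fun V hV => ⟨V, hV.isCompact, by simp⟩, fun _ =>
    ⟨⊤, trivial, r, isSplitTorusWith_bc _ h⟩⟩

/-- Descent of tori along a quasi-compact flat surjective morphism. -/
theorem isTorus_of_bc {S S' : Scheme.{u}} (f : S' ⟶ S) [Flat f] [Surjective f] [QuasiCompact f]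
    {T : Over S} [GrpObj T] (h : Red.IsTorus (Red.bc f T)) : Red.IsTorus T :=
  AlgBc.isTorus_of_bc f (qc_cover f) h

lemma isTorus_fibre {S : Scheme.{u}} (C : Over S) [GrpObj C] (s : S) (h : Red.IsTorus (Red.geomFibre s C)) :
    Red.IsTorus (Red.bc (S.fromSpecResidueField s) C) := by
  let p : Spec (CommRingCat.of (AlgebraicClosure (S.residueField s))) ⟶ Spec (S.residueField s) :=
    Spec.map (CommRingCat.ofHom (algebraMap (S.residueField s) (AlgebraicClosure (S.residueField s))))
  have h1 : Red.IsTorus (Red.bc p (Red.bc (S.fromSpecResidueField s) C)) :=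
    isTorus_of_iso (BcIso.bcCompIso p (S.fromSpecResidueField s) C) h
  exact isTorus_of_bc p h1

/-- If all geometric fibres are tori, so are all base changes to fields. -/
theorem isTorus_bc_field {S : Scheme.{u}} (C : Over S) [GrpObj C]
    (h : ∀ s : S, Red.IsTorus (Red.geomFibre s C)) {F : Type u} [Field F] (t : Spec (CommRingCat.of F) ⟶ S) :
    Red.IsTorus (Red.bc t C) := by
  obtain ⟨s, q, hq⟩ : ∃ (s : S) (q : Spec (CommRingCat.of F) ⟶ Spec (S.residueField s)),
      q ≫ S.fromSpecResidueField s = t := by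
    refine ⟨t (IsLocalRing.closedPoint F), Spec.map (Scheme.descResidueField
      (Scheme.stalkClosedPointTo t)), ?_⟩
    exact Scheme.descResidueField_stalkClosedPointTo_fromSpecResidueField F S t
  have h1 : Red.IsTorus (Red.bc q (Red.bc (S.fromSpecResidueField s) C)) :=
    isTorus_bc q (isTorus_fibre C s (h s))
  exact isTorus_of_iso ((BcIso.bcCompIso q (S.fromSpecResidueField s) C).symm ≪≫ BcIso.bcCongrIso hq C) h1

/-- The fibres of a base change are tori if the fibres are. -/
theorem isTorus_geomFibre_bc {S S' : Scheme.{u}} (f : S' ⟶ S) (C : Over S) [GrpObj C]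
    (h : ∀ s : S, Red.IsTorus (Red.geomFibre s C)) (s' : S') : Red.IsTorus (Red.geomFibre s' (Red.bc f C)) :=
  isTorus_of_iso (BcIso.bcCompIso (Red.geomPt s') f C) (isTorus_bc_field C h (Red.geomPt s' ≫ f))

/-- If all base changes to fields are tori then so are the geometric fibres. -/
theorem affFib {S : Scheme.{u}} (C : Over S) [GrpObj C] (h : ∀ s : S, Red.IsTorus (Red.geomFibre s C)) :
    AffDvrGrp789.AffFib C.hom := by
  intro F _ t
  have h1 := isAffineHom_of_isTorus (isTorus_bc_field C h t)
  exact isAffine_of_isAffineHom (Red.bc t C).hom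

section hopf

/-- Base change of tori of constant rank. -/
lemma isTorusConst_bc {R A : Type u} [CommRing R] [CommRing A] [HopfAlgebra R A]
    (h : SGA3b.IsTorusConst R A) (L : Type u) [CommRing L] [Algebra R L] : SGA3b.IsTorusConst L (L ⊗[R] A) := by
  obtain ⟨R', _, _, hff, n, ⟨e⟩⟩ := h
  have hff' : Module.FaithfullyFlat L (L ⊗[R] R') := inferInstance
  let g := GBasis.ofBialgEquiv e
  let φ : R' →ₐ[R] L ⊗[R] R' := Algebra.TensorProduct.includeRight
  let g1 := (g.bc φ).map (cancelBC R L (L ⊗[R] R') A).symm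
  exact ⟨L ⊗[R] R', inferInstance, inferInstance, hff', n, ⟨g1.bialgEquiv.symm⟩⟩

lemma isTorus_of_const {R A : Type u} [CommRing R] [CommRing A] [HopfAlgebra R A]
    (h : SGA3b.IsTorusConst R A) : SGA3b.IsTorus R A :=
  ⟨{1}, by simp, fun f _ => isTorusConst_bc h (Localization.Away f)⟩

/-- Tori over a field, Hopf algebra form. -/
lemma isTorus_field {κ B : Type u} [Field κ] [CommRing B] [HopfAlgebra κ B] (h : Red.IsTorus (SpecOver κ B)) :
    SGA3b.IsTorus κ B := by
  refine isTorus_of_const ?_
  obtain ⟨r, hr⟩ := exists_isSplitTorusWith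
    (isTorus_bc (Spec.map (CommRingCat.ofHom (algebraMap κ (AlgebraicClosure κ)))) h)
  obtain ⟨g⟩ := (TorusEtLoc920.isSplit_iff r).mp hr
  exact ⟨AlgebraicClosure κ, inferInstance, inferInstance, inferInstance, r,
    ⟨((g.reindex MulEquiv.ulift).bialgEquiv).symm⟩⟩

/-- Hopf algebra tori give tori. -/
theorem isTorus_specOver {R A : Type u} [CommRing R] [CommRing A] [HopfAlgebra R A] (h : SGA3b.IsTorus R A) :
    Red.IsTorus (SpecOver R A) := by
  obtain ⟨s, hs, H⟩ := h
  refine MT.isTorus_of_family (J := s) (S' := fun f => Spec (CommRingCat.of (Localization.Away f.1)))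
    (fun f => Spec.map (CommRingCat.ofHom (algebraMap R (Localization.Away f.1)))) (fun f => ?_) (fun f => ?_)
    (fun p => ?_) (fun f => ?_)
  · have : IsOpenImmersion (Spec.map (CommRingCat.ofHom (algebraMap R (Localization.Away f.1)))) :=
      IsOpenImmersion.of_isLocalization f.1
    infer_instance
  · have : IsOpenImmersion (Spec.map (CommRingCat.ofHom (algebraMap R (Localization.Away f.1)))) :=
      IsOpenImmersion.of_isLocalization f.1
    exact (Spec.map (CommRingCat.ofHom (algebraMap R (Localization.Away f.1)))).isOpenEmbedding.isOpenMap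
  · by_contra hcon
    push Not at hcon
    have h1 : s ⊆ p.asIdeal := by
      intro f hf
      by_contra hfp
      apply hcon ⟨f, hf⟩
      have h2 := PrimeSpectrum.localization_away_comap_range (Localization.Away f) f
      change p ∈ Set.range (PrimeSpectrum.comap (algebraMap R (Localization.Away f)))
      rw [h2]
      exact hfp
    have h2 : Ideal.span s ≤ p.asIdeal := Ideal.span_le.mpr h1
    rw [hs] at h2
    exact p.2.ne_top (top_le_iff.mp h2)
  · obtain ⟨R', _, _, hff, n, ⟨e⟩⟩ := H f.1 f.2
    let L := Localization.Away f.1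
    let _ : Algebra R R' := ((algebraMap L R').comp (algebraMap R L)).toAlgebra
    have : IsScalarTower R L R' := IsScalarTower.of_algebraMap_eq' rfl
    let g : GBasis R' (R' ⊗[R] A) _ := (GBasis.ofBialgEquiv e).map (cancelBC R L R' A)
    have h1 := (TorusEtLoc920.isSplit_iff n).mpr ⟨g.reindex MulEquiv.ulift.symm⟩
    let q : Spec (CommRingCat.of R') ⟶ Spec (CommRingCat.of L) := Spec.map (CommRingCat.ofHom (algebraMap L R'))
    have hq := (flat_and_surjective_SpecMap_iff (CommRingCat.ofHom (algebraMap L R'))).mpr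
      (RingHom.faithfullyFlat_algebraMap_iff.mpr hff)
    have : Flat q := hq.1
    have : Surjective q := hq.2
    refine isTorus_of_bc q ?_
    refine isTorus_of_iso (BcIso.bcCompIso q (Spec.map (CommRingCat.ofHom (algebraMap R L))) _) ?_
    refine isTorus_of_iso (BcIso.bcCongrIso ?_ _) (isTorus_of_isSplitTorusWith h1)
    rw [← Spec.map_comp]
    rfl

/-- The affine case over an affine base. -/
theorem isTorus_of_affine {R : Type u} [CommRing R] (C : Over (Spec (CommRingCat.of R))) [GrpObj C]
    [IsAffine C.left] [Flat C.hom] [LocallyOfFinitePresentation C.hom]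
    (h : ∀ s, Red.IsTorus (Red.geomFibre s C)) : Red.IsTorus C := by
  obtain ⟨A, _, _, e, he⟩ := exists_hopf R C
  have e' : Grp.mk C ≅ Grp.mk (SpecOver R A) := Grp.mkIso' e
  have h1 : Flat (SpecOver R A).hom := prop_of_grp_iso e'.symm ‹Flat C.hom›
  have h2 : LocallyOfFinitePresentation (SpecOver R A).hom :=
    prop_of_grp_iso e'.symm ‹LocallyOfFinitePresentation C.hom›
  have h3 : Module.Flat R A := by
    have h1' : Flat (Spec.map (CommRingCat.ofHom (algebraMap R A))) := h1
    rw [HasRingHomProperty.Spec_iff (P := @Flat)] at h1'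
    exact RingHom.flat_algebraMap_iff.mp h1'
  have h4 : Algebra.FinitePresentation R A := by
    have h2' : LocallyOfFinitePresentation (Spec.map (CommRingCat.ofHom (algebraMap R A))) := h2
    rw [HasRingHomProperty.Spec_iff (P := @LocallyOfFinitePresentation)] at h2'
    exact RingHom.finitePresentation_algebraMap.mp h2'
  refine isTorus_of_iso e'.symm (isTorus_specOver (Groth.Agent.S2976.result R A h4 fun p _ => ?_))
  refine isTorus_field ?_
  obtain ⟨e₁⟩ := Hens.Dict.bc_specOver R A p.ResidueField
  refine isTorus_of_iso e₁ (isTorus_of_iso (BcIso.bcMapIso _ e') ?_)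
  exact isTorus_bc_field C h (Spec.map (CommRingCat.ofHom (algebraMap R p.ResidueField)))

end hopf

/-- **Fibre criterion for tori**, affine morphisms. -/
theorem isTorus_of_isAffineHom {S : Scheme.{u}} (C : Over S) [GrpObj C] [IsAffineHom C.hom] [Flat C.hom]
    [LocallyOfFinitePresentation C.hom] (h : ∀ s : S, Red.IsTorus (Red.geomFibre s C)) : Red.IsTorus C := by
  refine MT.isTorus_of_family (J := S) (S' := fun s => Spec Γ(S.affineCover.X (S.affineCover.idx s), ⊤))
    (fun s => (S.affineCover.X _).isoSpec.inv ≫ S.affineCover.f (S.affineCover.idx s)) (fun s => inferInstance)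
    (fun s => (Scheme.Hom.isOpenEmbedding _).isOpenMap) (fun s => ?_) (fun s => ?_)
  · refine ⟨s, ?_⟩
    obtain ⟨y, hy⟩ := S.affineCover.covers s
    refine ⟨(S.affineCover.X _).isoSpec.hom y, ?_⟩
    rw [← Scheme.Hom.comp_apply, Iso.hom_inv_id_assoc]
    exact hy
  · let q : Spec Γ(S.affineCover.X (S.affineCover.idx s), ⊤) ⟶ S :=
      (S.affineCover.X _).isoSpec.inv ≫ S.affineCover.f (S.affineCover.idx s)
    change Red.IsTorus (Red.bc q C)
    have h1 : IsAffineHom (Red.bc q C).hom := inferInstanceAs (IsAffineHom (pullback.snd C.hom q))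
    have h2 : Flat (Red.bc q C).hom := inferInstanceAs (Flat (pullback.snd C.hom q))
    have h3 : LocallyOfFinitePresentation (Red.bc q C).hom :=
      inferInstanceAs (LocallyOfFinitePresentation (pullback.snd C.hom q))
    have h4 : IsAffine (Red.bc q C).left := isAffine_of_isAffineHom (Red.bc q C).hom
    exact @isTorus_of_affine Γ(S.affineCover.X (S.affineCover.idx s), ⊤) _ (Red.bc q C) _ h4 h2 h3
      (isTorus_geomFibre_bc q C h)

end Groth.Agent.Sga3.H786.TCAff
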