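import Groth.Agent.Sga3.H786.TCAff
import Groth.Agent.Sga3B.LocLim789

/-!
# The torus locus is ind-constructible

`tlocus C`: the set of points of the base over which the fibre of the group `C` is a torus.
`exists_basicOpen`: if `C` is smooth quasi-compact (and quasi-separated) over `Spec R` and `t` is in the torus locus then
the torus locus contains a nonempty open subset of the closure of `t`.
-/

set_option autoImplicit false

universe u

open CategoryTheory MonoidalCategory CartesianMonoidalCategory MonObj GrpObj AlgebraicGeometry Limits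
open TensorProduct
open Groth.Agent.Books.AffBridge Groth.Agent.Sga3A Groth.Agent.Sga3A.MTBasis

namespace Groth.Agent.Sga3.H786.TCInd

open Groth.Agent.Sga3B Groth.Agent.Sga3B.TorusBc Groth.Agent.Sga3B.TorusAlgClosed Groth.Agent.Sga3.H786.TCAff

/-- The set of points over which the fibre is a torus. -/
def tlocus {S : Scheme.{u}} (C : Over S) [GrpObj C] : Set S :=
  {s : S | Red.IsTorus (Red.bc (S.fromSpecResidueField s) C)}

/-- The value of the torus locus on points of a base change. -/
theorem mem_tlocus_bc {S S' : Scheme.{u}} (v : S' ⟶ S) (C : Over S) [GrpObj C] (s' : S') :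
    s' ∈ tlocus (Red.bc v C) ↔ v s' ∈ tlocus C := by
  have h0 : Spec.map (v.residueFieldMap s') ≫ S.fromSpecResidueField (v s') = S'.fromSpecResidueField s' ≫ v :=
    v.SpecMap_residueFieldMap_fromSpecResidueField s'
  let p : Spec (S'.residueField s') ⟶ Spec (S.residueField (v s')) := Spec.map (v.residueFieldMap s')
  have hp := (flat_and_surjective_SpecMap_iff (v.residueFieldMap s')).mpr (by
    let _ : Algebra (S.residueField (v s')) (S'.residueField s') := (v.residueFieldMap s').hom.toAlgebra
    exact RingHom.faithfullyFlat_algebraMap_iff.mpr inferInstance)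
  have e : Grp.mk (Red.bc (S'.fromSpecResidueField s') (Red.bc v C)) ≅
      Grp.mk (Red.bc p (Red.bc (S.fromSpecResidueField (v s')) C)) :=
    (BcIso.bcCompIso _ _ _).symm ≪≫ BcIso.bcCongrIso h0.symm C ≪≫ BcIso.bcCompIso _ _ _
  have h1 : Flat p := hp.1
  have h2 : Surjective p := hp.2
  constructor
  · intro h
    exact isTorus_of_bc p (isTorus_of_iso e h)
  · intro h
    exact isTorus_of_iso e.symm (isTorus_bc p h)

theorem mem_tlocus_of_isTorus {S : Scheme.{u}} {C : Over S} [GrpObj C] (h : Red.IsTorus C) (s : S) : s ∈ tlocus C :=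
  isTorus_bc _ h

theorem mem_tlocus_of_mem_range {S S' : Scheme.{u}} (v : S' ⟶ S) (C : Over S) [GrpObj C]
    (h : Red.IsTorus (Red.bc v C)) (s : S) (hs : s ∈ Set.range v) : s ∈ tlocus C := by
  obtain ⟨s', rfl⟩ := hs
  exact (mem_tlocus_bc v C s').mp (mem_tlocus_of_isTorus h s')

theorem isTorus_geomFibre_of_mem_tlocus {S : Scheme.{u}} {C : Over S} [GrpObj C] {s : S} (h : s ∈ tlocus C) :
    Red.IsTorus (Red.geomFibre s C) := by
  let p : Spec (CommRingCat.of (AlgebraicClosure (S.residueField s))) ⟶ Spec (S.residueField s) :=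
    Spec.map (CommRingCat.ofHom (algebraMap (S.residueField s) (AlgebraicClosure (S.residueField s))))
  exact isTorus_of_iso (BcIso.bcCompIso p (S.fromSpecResidueField s) C).symm (isTorus_bc p h)

theorem mem_tlocus_iff {S : Scheme.{u}} {C : Over S} [GrpObj C] {s : S} :
    s ∈ tlocus C ↔ Red.IsTorus (Red.geomFibre s C) :=
  ⟨isTorus_geomFibre_of_mem_tlocus, isTorus_fibre C s⟩

theorem isTorus_bc_of_mem {S : Scheme.{u}} {C : Over S} [GrpObj C] {F : Type u} [Field F]
    (t : Spec (CommRingCat.of F) ⟶ S) (h : t (IsLocalRing.closedPoint F) ∈ tlocus C) : Red.IsTorus (Red.bc t C) := by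
  have h0 := Scheme.descResidueField_stalkClosedPointTo_fromSpecResidueField F S t
  exact isTorus_of_iso ((BcIso.bcCompIso _ _ C).symm ≪≫ BcIso.bcCongrIso h0 C)
    (isTorus_bc (Spec.map (Scheme.descResidueField (Scheme.stalkClosedPointTo t))) h)

lemma pt_eq {A B : Type u} [CommRing A] [CommRing B] (φ : A →+* B) (x : Spec (CommRingCat.of B))
    (y : Spec (CommRingCat.of A)) (h : x.asIdeal.comap φ = y.asIdeal) : Spec.map (CommRingCat.ofHom φ) x = y :=
  PrimeSpectrum.ext h

/-- the generic point of the spectrum of a domain -/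
def gpt (D : Type u) [CommRing D] [IsDomain D] : Spec (CommRingCat.of D) :=
  (⟨⊥, Ideal.isPrime_bot⟩ : PrimeSpectrum D)

@[simp] lemma gpt_asIdeal (D : Type u) [CommRing D] [IsDomain D] : (gpt D).asIdeal = ⊥ := rfl

lemma map_gpt {A B : Type u} [CommRing A] [CommRing B] [IsDomain B] (φ : A →+* B) (y : Spec (CommRingCat.of A))
    (h : RingHom.ker φ = y.asIdeal) : Spec.map (CommRingCat.ofHom φ) (gpt B) = y :=
  pt_eq φ _ _ (by rw [gpt_asIdeal, ← RingHom.ker_eq_comap_bot, h])

lemma gpt_field (K : Type u) [Field K] : IsLocalRing.closedPoint K = gpt K :=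
  PrimeSpectrum.ext (IsLocalRing.maximalIdeal_eq_bot)

/-- Étale splitting near a prime from a flat splitting. -/
theorem exists_etale_of_flat {R A C : Type u} [CommRing R] [CommRing A] [HopfAlgebra R A]
    [Algebra.FinitePresentation R A] [CommRing C] [Algebra R C] [Module.Flat R C] (c : Ideal C) [c.IsPrime]
    (p : Ideal R) [p.IsPrime] (hc : c.comap (algebraMap R C) = p) {r : ℕ}
    (g : GBasis C (C ⊗[R] A) (TorusEtLoc920.Mu.{u} r)) :
    ∃ (B : Type u) (_ : CommRing B) (_ : Algebra R B) (_ : Algebra.Etale R B) (q : Ideal B),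
      q.IsPrime ∧ q.comap (algebraMap R B) = p ∧ Nonempty (GBasis B (B ⊗[R] A) (TorusEtLoc920.Mu.{u} r)) := by
  obtain ⟨_, h1, h2⟩ := TorusEtLoc920.faithfullyFlat_atPrime p c hc
  exact EtDesc920.exists_gbasis_etale (A := A) p
    (Localization.AtPrime c) (g.bc (IsScalarTower.toAlgHom R C (Localization.AtPrime c)))

/-- Affine case with generic fibre a torus over a domain. -/
theorem exists_basicOpen_affine {D : Type u} [CommRing D] [IsDomain D] (C : Over (Spec (CommRingCat.of D))) [GrpObj C]
    [Smooth C.hom] [IsAffine C.left] (h : gpt D ∈ tlocus C) :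
    ∃ f : D, f ≠ 0 ∧ ∀ t : Spec (CommRingCat.of D), f ∉ t.asIdeal → t ∈ tlocus C := by
  let K := FractionRing D
  obtain ⟨A, _, _, e, he⟩ := exists_hopf D C
  have e' : Grp.mk C ≅ Grp.mk (SpecOver D A) := Grp.mkIso' e
  have h1 : Smooth (SpecOver D A).hom := prop_of_grp_iso e'.symm ‹Smooth C.hom›
  have h4 : Algebra.FinitePresentation D A := by
    have h2 : Smooth (Spec.map (CommRingCat.ofHom (algebraMap D A))) := h1
    rw [HasRingHomProperty.Spec_iff (P := @Smooth)] at h2
    simp only [CommRingCat.hom_ofHom, RingHom.smooth_algebraMap] at h2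
    infer_instance
  let Ω := AlgebraicClosure K
  have hinj : Function.Injective (algebraMap D Ω) := by
    rw [IsScalarTower.algebraMap_eq D K Ω]
    exact (algebraMap K Ω).injective.comp (IsFractionRing.injective D K)
  have hbot : (⊥ : Ideal Ω).comap (algebraMap D Ω) = ⊥ := by
    rw [← RingHom.ker_eq_comap_bot]
    exact (RingHom.injective_iff_ker_eq_bot _).mp hinj
  have hT : Red.IsTorus (Red.bc (Spec.map (CommRingCat.ofHom (algebraMap D Ω))) (SpecOver D A)) := by
    refine isTorus_of_iso (BcIso.bcMapIso (Spec.map (CommRingCat.ofHom (algebraMap D Ω))) e') ?_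
    refine isTorus_bc_of_mem _ ?_
    rw [gpt_field, map_gpt (algebraMap D Ω) (gpt D) ((RingHom.injective_iff_ker_eq_bot _).mp hinj)]
    exact h
  obtain ⟨r, hr⟩ := exists_isSplitTorusWith hT
  obtain ⟨g⟩ := (TorusEtLoc920.isSplit_iff r).mp hr
  have hfl : Module.Flat D Ω := by
    have : Module.Flat D K := IsLocalization.flat K (nonZeroDivisors D)
    exact Module.Flat.trans D K Ω
  obtain ⟨B, _, _, hB, q, hq, hqp, hgB⟩ := exists_etale_of_flat (A := A) (⊥ : Ideal Ω) (⊥ : Ideal D) hbot g
  let v : Spec (CommRingCat.of B) ⟶ Spec (CommRingCat.of D) := Spec.map (CommRingCat.ofHom (algebraMap D B))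
  have hv : Etale v := by
    rw [HasRingHomProperty.Spec_iff (P := @Etale)]
    exact RingHom.etale_algebraMap.mpr inferInstance
  have hsp := (TorusEtLoc920.isSplit_iff (R := D) (A := A) (C := B) r).mpr hgB
  have htor : Red.IsTorus (Red.bc v C) :=
    isTorus_of_iso (BcIso.bcMapIso v e'.symm) (isTorus_of_isSplitTorusWith hsp)
  have hopen : IsOpen (Set.range v) := v.isOpenMap.isOpen_range
  have hmem : (⊥ : PrimeSpectrum D) ∈ Set.range v := ⟨⟨q, hq⟩, PrimeSpectrum.ext hqp⟩
  obtain ⟨_, ⟨f, rfl⟩, hf1, hf2⟩ :=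
    (PrimeSpectrum.isTopologicalBasis_basic_opens (R := D)).exists_subset_of_mem_open hmem hopen
  refine ⟨f, ?_, fun t ht => mem_tlocus_of_mem_range v C htor t (hf2 ht)⟩
  rintro rfl
  exact hf1 (Ideal.zero_mem _)

/-- base change to `D_g` is affine if the preimage of `D(g)` is affine -/
lemma isAffine_away {D : Type u} [CommRing D] {X : Scheme.{u}} (f : X ⟶ Spec (CommRingCat.of D)) (g : D)
    (h : IsAffineOpen (f ⁻¹ᵁ (PrimeSpectrum.basicOpen g))) :
    IsAffine (pullback f (Spec.map (CommRingCat.ofHom (algebraMap D (Localization.Away g))))) := by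
  let j : Spec (CommRingCat.of (Localization.Away g)) ⟶ Spec (CommRingCat.of D) :=
    Spec.map (CommRingCat.ofHom (algebraMap D (Localization.Away g)))
  have hj : IsOpenImmersion j := IsOpenImmersion.of_isLocalization g
  have h8 : (pullback.fst f j).opensRange = f ⁻¹ᵁ (PrimeSpectrum.basicOpen g) := by
    ext x
    have h3 : Set.range j = (PrimeSpectrum.basicOpen g : Set (PrimeSpectrum D)) :=
      PrimeSpectrum.localization_away_comap_range (Localization.Away g) g
    change x ∈ Set.range (pullback.fst f j) ↔ _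
    rw [Scheme.Pullback.range_fst, Set.mem_preimage, h3]
    rfl
  rw [← h8] at h
  have h' : IsAffine (pullback.fst f j).opensRange.toScheme := h
  exact .of_isIso (pullback.fst f j).isoOpensRange.hom

/-- The case of a domain. -/
theorem exists_basicOpen_domain {D : Type u} [CommRing D] [IsDomain D] (C : Over (Spec (CommRingCat.of D))) [GrpObj C]
    [Smooth C.hom] [QuasiCompact C.hom] [QuasiSeparated C.hom] (h : gpt D ∈ tlocus C) :
    ∃ f : D, f ≠ 0 ∧ ∀ t : Spec (CommRingCat.of D), f ∉ t.asIdeal → t ∈ tlocus C := by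
  let K := FractionRing D
  have hK : IsAffine (pullback C.hom (Spec.map (CommRingCat.ofHom (algebraMap D K)))) := by
    have h1 : Red.IsTorus (Red.bc (Spec.map (CommRingCat.ofHom (algebraMap D K))) C) := by
      refine isTorus_bc_of_mem _ ?_
      rw [gpt_field, map_gpt (algebraMap D K) (gpt D)
        ((RingHom.injective_iff_ker_eq_bot _).mp (IsFractionRing.injective D K))]
      exact h
    have h2 := isAffineHom_of_isTorus h1
    exact isAffine_of_isAffineHom (Red.bc (Spec.map (CommRingCat.ofHom (algebraMap D K))) C).hom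
  obtain ⟨g, hg, hgU⟩ := LocLim789.exists_isAffineOpen (M := nonZeroDivisors D) K C.hom hK
  let L := Localization.Away g
  let j : Spec (CommRingCat.of L) ⟶ Spec (CommRingCat.of D) := Spec.map (CommRingCat.ofHom (algebraMap D L))
  have hle : Submonoid.powers g ≤ nonZeroDivisors D := Submonoid.powers_le.mpr hg
  have hL : IsDomain L := IsLocalization.isDomain_of_le_nonZeroDivisors L hle
  have hinj : Function.Injective (algebraMap D L) := IsLocalization.injective (M := Submonoid.powers g) L hle
  have haff : IsAffine (Red.bc j C).left := isAffine_away C.hom g hgU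
  have hsm : Smooth (Red.bc j C).hom := inferInstanceAs (Smooth (pullback.snd C.hom j))
  obtain ⟨f, hf, H⟩ := exists_basicOpen_affine (Red.bc j C) ((mem_tlocus_bc j C (gpt L)).mpr (by
    rw [map_gpt (algebraMap D L) (gpt D) ((RingHom.injective_iff_ker_eq_bot _).mp hinj)]
    exact h))
  obtain ⟨n, a, hn⟩ := IsLocalization.Away.surj g f
  refine ⟨g * a, mul_ne_zero (nonZeroDivisors.ne_zero hg) ?_, fun t ht => ?_⟩
  · rintro rfl
    rw [map_zero] at hn
    have : algebraMap D L g ^ n ≠ 0 := pow_ne_zero _ (by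
      rw [Ne, map_eq_zero_iff _ hinj]; exact nonZeroDivisors.ne_zero hg)
    exact (mul_ne_zero hf this) hn
  · have hg' : g ∉ t.asIdeal := fun h => ht (Ideal.mul_mem_right _ _ h)
    have ha' : a ∉ t.asIdeal := fun h => ht (Ideal.mul_mem_left _ _ h)
    obtain ⟨t', rfl⟩ : t ∈ Set.range j := by
      have h3 : Set.range j = (PrimeSpectrum.basicOpen g : Set (PrimeSpectrum D)) :=
        PrimeSpectrum.localization_away_comap_range L g
      rw [h3]
      exact hg'
    refine (mem_tlocus_bc j C t').mp (H t' fun hft => ha' ?_)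
    change algebraMap D L a ∈ t'.asIdeal
    rw [← hn]
    exact Ideal.mul_mem_right _ _ hft

/-- **The torus locus is ind-constructible.** -/
theorem exists_basicOpen {R : Type u} [CommRing R] (C : Over (Spec (CommRingCat.of R))) [GrpObj C]
    [Smooth C.hom] [QuasiCompact C.hom] [QuasiSeparated C.hom] (t : PrimeSpectrum R) (ht : t ∈ tlocus C) :
    ∃ f ∉ t.asIdeal, ∀ t' : PrimeSpectrum R, t.asIdeal ≤ t'.asIdeal → f ∉ t'.asIdeal → t' ∈ tlocus C := by
  let D := R ⧸ t.asIdeal
  let p : Spec (CommRingCat.of D) ⟶ Spec (CommRingCat.of R) :=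
    Spec.map (CommRingCat.ofHom (Ideal.Quotient.mk t.asIdeal))
  have hsm : Smooth (Red.bc p C).hom := inferInstanceAs (Smooth (pullback.snd C.hom p))
  have hqc : QuasiCompact (Red.bc p C).hom := inferInstanceAs (QuasiCompact (pullback.snd C.hom p))
  have hqs : QuasiSeparated (Red.bc p C).hom := inferInstanceAs (QuasiSeparated (pullback.snd C.hom p))
  obtain ⟨f, hf, H⟩ := exists_basicOpen_domain (Red.bc p C) ((mem_tlocus_bc p C (gpt D)).mpr (by
    rw [map_gpt (Ideal.Quotient.mk t.asIdeal) t Ideal.mk_ker]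
    exact ht))
  obtain ⟨f, rfl⟩ := Ideal.Quotient.mk_surjective f
  refine ⟨f, fun h => hf (Ideal.Quotient.eq_zero_iff_mem.mpr h), fun t' h1 h2 => ?_⟩
  obtain ⟨x, rfl⟩ : t' ∈ Set.range p := by
    have h3 : Set.range p = PrimeSpectrum.zeroLocus (RingHom.ker (Ideal.Quotient.mk t.asIdeal)) :=
      range_comap_of_surjective _ _ Ideal.Quotient.mk_surjective
    rw [h3, Ideal.mk_ker]
    exact h1
  exact (mem_tlocus_bc p C x).mp (H x h2)

end Groth.Agent.Sga3.H786.TCInd
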